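import Cfsg.Agent.H355.GT.Main
import Cfsg.Agent.H245.OZ.GThreeRow

/-!
# The row `G₂(q)` (helper355, S4842), hypothesis-free
-/

set_option autoImplicit false

open Cfsg

namespace Cfsg.Agent.H355.GT

open Cfsg.Lie Cfsg.Agent.H730.OZ

universe u

/-- **the row `G₂(q)`** -/
theorem row_g2 {S : Type u} [Group S] [Finite S] (hs : IsSimpleGroup S) (h : Lie.IsoChevG2 S) :
    Row S :=
  row_g2_of_three (fun hs _ _ _ hF e => H245.OZ.row_G2_three hs hF e) hs h

end Cfsg.Agent.H355.GT
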