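import Cfsg.Agent.H355.GT.Row
import Cfsg.Agent.H785.G24.Row

/-!
# The row `G₂(q)`, `q ≥ 3` (helper355, S4842), from the row `G₂(3)`
-/

set_option autoImplicit false

open Cfsg

namespace Cfsg.Agent.H355.GT

open Cfsg.Lie Cfsg.Agent.H730.OZ

universe u

/-- **the row `G₂(q)`**, the case `q = 3` as a hypothesis -/
theorem row_g2_of_three
    (h3 : ∀ {S : Type u} [Group S] [Finite S], IsSimpleGroup S → ∀ {F : Type} [Field F] [Fintype F],
      Fintype.card F = 3 → (S ≃* ↥(chevG2.group F)) → Row S)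
    {S : Type u} [Group S] [Finite S] (hs : IsSimpleGroup S) (h : Lie.IsoChevG2 S) : Row S := by
  obtain ⟨F, i1, i2, hF, ⟨e⟩⟩ := h
  rcases (show Fintype.card F = 3 ∨ Fintype.card F = 4 ∨ 5 ≤ Fintype.card F by omega) with h | h | h
  · exact h3 hs h e
  · exact H785.G24.row_G2_four hs h e
  · exact Row.congr e (row_ge h)

end Cfsg.Agent.H355.GT
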