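import Cfsg.Agent.H355.GT.Frame
import Cfsg.Agent.H364.OZ.ChevSL
import Cfsg.Agent.H364.OZ.G2End
import Cfsg.Agent.H364.OZ.Mid
import Cfsg.Agent.H448.Van.GoodE8
import Cfsg.Agent.H448.Van.Cong
import Cfsg.Agent.H732.VZ.Bridge
import Cfsg.Agent.H279.OZ.Kaw
import Cfsg.Agent.H604.OZ.Basic
import Cfsg.Agent.H730.OZ.Asm
import Cfsg.Agent.H631.VZ.Supp
import Cfsg.Agent.H985.VZ.GTwoEnd
import Cfsg.Agent.H650.OZ.F4Inst
import Cfsg.Agent.H446.OZ.G2El

/-!
# The row `G₂(q)`, `q ≥ 5` (helper355, S4842)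

* `not_dvd_st` : `q ^ 6` does not divide the degree of a character vanishing on exactly one class;
* `row_of_ell` : the row `G₂(q)`, `q ≥ 4`, from two non-conjugate elliptic elements for each node;
* `row_ge` : the row `G₂(q)`, `q ≥ 5`.
-/

set_option autoImplicit false
set_option linter.unusedSectionVars false

open Cfsg

namespace Cfsg.Agent.H355.GT

open CoxeterSystem Cfsg.Agent.Characters Cfsg.Agent.ChevalleyStructure.CoxeterGeom Cfsg.Agent.Tits.Roots Cfsg.Agent.Tits.Core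
  Cfsg.Agent.Nodes.Reps Cfsg.Agent.Nodes.BNOf Cfsg.Agent.Nodes.Bruhat Cfsg.Agent.Nodes.LeviDec
open Cfsg.Lie Cfsg.Agent.ChevalleyStructure Cfsg.Agent.ChevalleyStructure.Elts
  Cfsg.Agent.ChevalleyStructure.CoxeterGeomTypes
open Cfsg.Agent.Nodes.RGDChev Cfsg.Agent.KFacts.RgdChevCoord
open Cfsg.Agent.H985.VZ Cfsg.Agent.H604.OZ Cfsg.Agent.H686.CharKit Cfsg.Agent.H730.OZ
open Cfsg.Agent.H732.VZ (One)

/-- **the degree is not divisible by `q ^ 6`** -/
theorem not_dvd_st {F : Type} [Field F] [Fintype F] {p a : ℕ} (hp : p.Prime) (ha : 0 < a) (hF : Fintype.card F = p ^ a)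
    [CharP F p] {χ : IrrCharacter ↥(chevG2.group F)} {x : ↥(chevG2.group F)} (h : One χ x) :
    ¬ Fintype.card F ^ 6 ∣ charDegree (χ : ↥(chevG2.group F) → ℂ) := by
  intro hd
  have hK : Kaw p ↥(chevG2.group F) := H279.OZ.kaw_of_hasRGD hp (hasRGD_G2 F p)
  have hcard : 1 * Nat.card ↥(chevG2.group F) = p ^ (6 * a) * (([2, 6] : List ℕ).map fun d => (p ^ a) ^ d - 1).prod := by
    rw [Cfsg.Agent.S1059.result hF]
    simp only [List.map_cons, List.map_nil, List.prod_cons, List.prod_nil, mul_one, ← pow_mul]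
    rw [mul_comm a 6]
    ring
  have hL : ∀ d ∈ ([2, 6] : List ℕ), 0 < d := fun d hd => by
    simp only [List.mem_cons, List.not_mem_nil, or_false] at hd
    omega
  have hv : (Nat.card ↥(chevG2.group F)).factorization p = 6 * a :=
    H448.Van.fact_of hp (fun h => hp.one_lt.ne' (Nat.dvd_one.1 h)) (H448.Van.not_dvd_prod hp ha hL) Nat.card_pos.ne' hcard
  have hpG : p ∣ Nat.card ↥(chevG2.group F) := by
    by_contra h
    rw [Nat.factorization_eq_zero_of_not_dvd h] at hv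
    omega
  have h1 := OneZero.dvd_of_degree hp hpG χ.2 ⟨x, h.zero, h.uniq⟩ (by
    rw [hv, mul_comm 6 a, pow_mul, ← hF]
    exact hd)
  rw [hK.card, hv, show 2 * (6 * a) = a * 12 by ring] at h1
  refine H448.Van.not_dvd_card hp ha (by norm_num) (N := 6 * a) (L := [2, 6]) ?_ (fun d hd => ?_) h1
  · rw [← hcard]
    exact dvd_mul_left _ _
  · simp only [List.mem_cons, List.not_mem_nil, or_false] at hd
    omega

/-- one of two non-conjugate elements is not a zero -/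
theorem exists_ne_zero {G : Type*} [Group G] {χ : IrrCharacter G} {x : G} (h : One χ x) {P : G → Prop}
    (hP : ∃ t t' : G, P t ∧ P t' ∧ ¬ IsConj t t') : ∃ t, P t ∧ (χ : G → ℂ) t ≠ 0 := by
  obtain ⟨t, t', h1, h2, hc⟩ := hP
  by_cases h3 : (χ : G → ℂ) t = 0
  · refine ⟨t', h2, fun h4 => hc ((h.uniq t h3).symm.trans (h.uniq t' h4))⟩
  · exact ⟨t, h1, h3⟩

set_option backward.isDefEq.respectTransparency false in
theorem cartan_eq : cartanOf chevG2 2 = AG := by
  funext i j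
  rcases (show i = 0 ∨ i = 1 by fin_cases i <;> simp) with rfl | rfl <;>
    rcases (show j = 0 ∨ j = 1 by fin_cases j <;> simp) with rfl | rfl
  · exact A00
  · exact A01
  · exact A10
  · exact A11

/-- the row `G₂(q)` from the elliptic elements -/
theorem row_of_ell {F : Type} [Field F] [Fintype F] (hF : 4 ≤ Fintype.card F)
    (hell : ∀ i : Fin 2, ∃ t t' : ↥(chevG2.group F),
      Ell CoxeterMatrix.G₂.toCoxeterSystem hpG2.isCartan (TT chevG2 F) (XX chevG2 2 F) {i} t ∧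
      Ell CoxeterMatrix.G₂.toCoxeterSystem hpG2.isCartan (TT chevG2 F) (XX chevG2 2 F) {i} t' ∧ ¬ IsConj t t') :
    Row ↥(chevG2.group F) := by
  classical
  refine row_of fun χ x hx => ?_
  obtain ⟨N, ρ, hρ, hχ⟩ := χ.2
  obtain ⟨p, hp⟩ := CharP.exists F
  have hpp : Fact p.Prime := ⟨CharP.char_is_prime F p⟩
  obtain ⟨⟨a, ha⟩, -, hFa⟩ := FiniteField.card F p
  simp only [PNat.mk_coe] at hFa
  have hW : Finite CoxeterMatrix.G₂.Group := finite_W hpG2 CoxeterMatrix.G₂.toCoxeterSystem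
  have R := rgd (K := F) hpG2 CoxeterMatrix.G₂.toCoxeterSystem p
  have hG := H35.ExcIdx.GG_eq_top hpG2 F CoxeterMatrix.G₂.toCoxeterSystem
  obtain ⟨t₀, h0, hc0⟩ := exists_ne_zero hx (hell 0)
  obtain ⟨t₁, h1, hc1⟩ := exists_ne_zero hx (hell 1)
  rw [← hχ] at hc0 hc1
  obtain ⟨r, hgood, hord⟩ := H448.Van.good_G2_6 hpp.out ha hFa (by omega) (by omega)
  have hnr := hgood.iso.not_dvd χ x hx
  obtain ⟨y, z, hy, hz, h⟩ := g2_frame R cartan_eq (by decide) hG (comm_T hpG2 F) (H650.OZ.FF.tco hpG2 p) hρ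
    (n_mem_Li hpG2 F) (fun i t ht => H364.OZ.ChevSL.mem_range_hh hpG2 F CoxeterMatrix.G₂.toCoxeterSystem p i t ht)
    (fun i => qq_eq hpG2 F CoxeterMatrix.G₂.toCoxeterSystem i) (by omega) h0 hc0 h1 hc1
  rw [hχ, ← charDegree_irr χ, hFa] at h
  rw [hFa] at hy hz
  have h1d := one_lt_deg hx
  rcases h with h | h
  · rcases H364.OZ.G2End.lin_dvd hgood.iso.prime ha hpp.out.two_le (Or.inl hord) hy hz h with h2 | h2 | h2
    · omega
    · exact not_dvd_st hpp.out ha hFa hx (by rw [h2, hFa])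
    · exact hnr h2
  · exact hnr (H364.OZ.G2End.quad_dvd hgood.iso.prime ha hpp.out.two_le (Or.inl hord) hy hz (by exact_mod_cast h))

/-- **The row `G₂(q)`, `q ≥ 5`.** -/
theorem row_ge {F : Type} [Field F] [Fintype F] (hF : 5 ≤ Fintype.card F) : Row ↥(chevG2.group F) := by
  have hW : Finite CoxeterMatrix.G₂.Group := finite_W hpG2 CoxeterMatrix.G₂.toCoxeterSystem
  exact row_of_ell (by omega) fun i => H446.OZ.GTwo.exists_ell CoxeterMatrix.G₂.toCoxeterSystem hpG2 hF i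

end Cfsg.Agent.H355.GT
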